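import Mathlib
import Groth.Agent.S0611
import Groth.Agent.QRegLib.Basic
import Groth.Agent.RegLocal.Basic
import Groth.Prelude.Def_CInt

/-! Nested ideals generated by regular sequences in a Noetherian local ring. -/

set_option autoImplicit false
set_option linter.style.haveILetI false

universe u

open RingTheory.Sequence IsLocalRing

namespace Groth.Agent.RegIdealLib

variable {A : Type u} [CommRing A] {n : ℕ}

theorem ofList_ofFn (b : Fin n → A) : Ideal.ofList (List.ofFn b) = Ideal.span (Set.range b) := by
  rw [Ideal.ofList, show {x | x ∈ List.ofFn b} = Set.range b from Set.ext fun x => List.mem_ofFn]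

/-- Coefficients of a linear relation of a quasi-regular family lie in its ideal. -/
theorem coeff_mem_of_relation (f : Fin n → A) (hf : CAlgX.IsQuasiRegular f) (c : Fin n → A)
    (h : ∑ i, c i * f i = 0) (j : Fin n) : c j ∈ Ideal.span (Set.range f) := by
  classical
  have h1 := hf 1 (∑ i, MvPolynomial.C (c i) * MvPolynomial.X i)
    (MvPolynomial.IsHomogeneous.sum _ _ _ fun i _ => (MvPolynomial.isHomogeneous_X A i).C_mul _)
    (by simp only [map_sum, map_mul, MvPolynomial.eval_C, MvPolynomial.eval_X, h, zero_mem]) (Finsupp.single j 1)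
  simpa [MvPolynomial.coeff_sum, MvPolynomial.coeff_X, Finsupp.single_eq_single_iff, eq_comm] using h1

theorem span_update (b : Fin n → A) (c : Fin n → A) (k : Fin n) (hk : IsUnit (c k)) :
    Ideal.span (Set.range (Function.update b k (∑ i, c i * b i))) = Ideal.span (Set.range b) := by
  classical
  set w := ∑ i, c i * b i with hw
  refine le_antisymm (Ideal.span_le.2 ?_) (Ideal.span_le.2 ?_) <;> rintro _ ⟨i, rfl⟩
  · by_cases hi : i = k
    · rw [hi, Function.update_self]
      exact sum_mem fun j _ => Ideal.mul_mem_left _ _ (Ideal.subset_span ⟨j, rfl⟩)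
    · rw [Function.update_of_ne hi]
      exact Ideal.subset_span ⟨i, rfl⟩
  · have hne : ∀ j ≠ k, b j ∈ Ideal.span (Set.range (Function.update b k w)) := fun j hj =>
      Ideal.subset_span ⟨j, Function.update_of_ne hj _ _⟩
    by_cases hi : i = k
    · subst hi
      refine (Ideal.unit_mul_mem_iff_mem _ hk).1 ?_
      rw [show c i * b i = w - ∑ j ∈ Finset.univ.erase i, c j * b j by
        rw [hw, eq_sub_iff_add_eq, Finset.add_sum_erase _ (fun j => c j * b j) (Finset.mem_univ i)]]
      exact sub_mem (Ideal.subset_span ⟨i, Function.update_self ..⟩)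
        (sum_mem fun j hj => Ideal.mul_mem_left _ _ (hne j (Finset.ne_of_mem_erase hj)))
    · exact hne i hi

variable [IsLocalRing A] [IsNoetherianRing A]

theorem isQuasiRegular_of_isRegular {b : Fin n → A} (hb : IsRegular A (List.ofFn b)) : CAlgX.IsQuasiRegular b :=
  Groth.Agent.QRegLib.isQuasiRegular_of_isWeaklyRegular b hb.toIsWeaklyRegular

/-- If `J ≤ K` and `K`, `K/J` are generated by regular sequences, so is `J`. -/
theorem isRegularIdeal_of_quotient {J K : Ideal A} (hJK : J ≤ K) (hK : K ≤ maximalIdeal A)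
    (hKreg : CInt.IsRegularIdeal K) (hKJ : CInt.IsRegularIdeal (K.map (Ideal.Quotient.mk J))) :
    CInt.IsRegularIdeal J := by
  classical
  obtain ⟨zs, hz, hzK⟩ := hKreg
  obtain ⟨ys, hys, hyK⟩ := hKJ
  set m := maximalIdeal A
  let π := Ideal.Quotient.mk J
  choose y hy using fun i : Fin ys.length => Ideal.Quotient.mk_surjective (ys.get i)
  have hyfun : (fun i => π (y i)) = ys.get := funext hy
  have hKbar : Ideal.span (Set.range fun i => π (y i)) = K.map π := by
    rw [hyfun, ← ofList_ofFn, List.ofFn_get, hyK]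
  have hcomap : (K.map π).comap π = K := by
    rw [Ideal.comap_map_of_surjective _ Ideal.Quotient.mk_surjective, ← RingHom.ker_eq_comap_bot, Ideal.mk_ker,
      sup_eq_left.2 hJK]
  have hqy : CAlgX.IsQuasiRegular fun i => π (y i) := by
    refine Groth.Agent.QRegLib.isQuasiRegular_of_isWeaklyRegular _ ?_
    rw [hyfun, List.ofFn_get]
    exact hys.toIsWeaklyRegular
  have hrel : ∀ (c : Fin ys.length → A), ∑ i, c i * y i ∈ J → ∀ j, c j ∈ K := fun c hc j => by
    have h1 := coeff_mem_of_relation _ hqy (fun i => π (c i)) (by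
      simp only [← map_mul, ← map_sum]
      exact Ideal.Quotient.eq_zero_iff_mem.2 hc) j
    rw [hKbar, ← Ideal.mem_comap, hcomap] at h1
    exact h1
  have hyK' : ∀ i, y i ∈ K := fun i => by
    rw [← hcomap, Ideal.mem_comap, ← hKbar]
    exact Ideal.subset_span ⟨i, rfl⟩
  have hdecomp : ∀ v ∈ K, ∃ d : Fin ys.length → A, v - ∑ i, d i * y i ∈ J := fun v hv => by
    have h1 : π v ∈ Ideal.span (Set.range fun i => π (y i)) := by rw [hKbar]; exact Ideal.mem_map_of_mem _ hv
    obtain ⟨d, hd⟩ := Ideal.mem_span_range_iff_exists_fun.1 h1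
    choose d' hd' using fun i => Ideal.Quotient.mk_surjective (d i)
    refine ⟨d', Ideal.Quotient.eq.1 ?_⟩
    simp only [map_sum, map_mul, hd']
    exact hd.symm
  have phase1 : ∀ t (ht : t ≤ ys.length), ∃ (b : Fin zs.length → A) (e : Fin t ↪ Fin zs.length),
      IsRegular A (List.ofFn b) ∧ Ideal.span (Set.range b) = K ∧ ∀ i, b (e i) = y (Fin.castLE ht i) := by
    intro t
    induction t with
    | zero => exact fun _ => ⟨zs.get, ⟨Fin.elim0, fun i => i.elim0⟩, by rwa [List.ofFn_get],
        by rw [← ofList_ofFn, List.ofFn_get, hzK], fun i => i.elim0⟩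
    | succ t ih =>
      intro ht
      obtain ⟨b, e, hb, hbK, hbe⟩ := ih (Nat.le_of_succ_le ht)
      let T : Fin ys.length := ⟨t, ht⟩
      obtain ⟨c, hc⟩ := Ideal.mem_span_range_iff_exists_fun.1 (hbK.ge (hyK' T))
      have hk : ∃ k, k ∉ Set.range e ∧ IsUnit (c k) := by
        by_contra hcon
        push Not at hcon
        choose d hd using fun k => hdecomp (b k) (hbK.le (Ideal.subset_span ⟨k, rfl⟩))
        let d' : Fin zs.length → Fin ys.length → A := fun k =>
          if h : ∃ i, e i = k then Pi.single (Fin.castLE (Nat.le_of_succ_le ht) h.choose) 1 else d k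
        have hd' : ∀ k, b k - ∑ i, d' k i * y i ∈ J := fun k => by
          by_cases h : ∃ i, e i = k
          · simp only [d', dif_pos h, Pi.single_apply, ite_mul, one_mul, zero_mul, Finset.sum_ite_eq', Finset.mem_univ, if_true]
            rw [← hbe, h.choose_spec, sub_self]
            exact zero_mem _
          · simp only [d', dif_neg h]
            exact hd k
        have h1 : ∑ i, ((if i = T then (1 : A) else 0) - ∑ k, c k * d' k i) * y i ∈ J := by
          have h2 : ∑ i, ((if i = T then (1 : A) else 0) - ∑ k, c k * d' k i) * y i =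
              ∑ k, c k * (b k - ∑ i, d' k i * y i) := by
            simp only [sub_mul, mul_sub, Finset.sum_sub_distrib, hc, ite_mul, one_mul, zero_mul,
              Finset.sum_ite_eq', Finset.mem_univ, if_true, Finset.sum_mul, Finset.mul_sum]
            rw [Finset.sum_comm]
            simp only [mul_assoc]
          rw [h2]
          exact sum_mem fun k _ => Ideal.mul_mem_left _ _ (hd' k)
        have h3 := hK (hrel _ h1 T)
        rw [if_pos rfl] at h3
        refine (maximalIdeal.isMaximal A).ne_top ((Ideal.eq_top_iff_one _).2 ?_)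
        have h4 : ∑ k, c k * d' k T ∈ m := sum_mem fun k _ => by
          by_cases h : ∃ i, e i = k
          · simp only [d', dif_pos h]
            rw [Pi.single_eq_of_ne (fun he => ?_), mul_zero]
            · exact zero_mem _
            · exact (Nat.ne_of_lt h.choose.2) (congrArg Fin.val he).symm
          · exact Ideal.mul_mem_right _ _ ((mem_maximalIdeal _).2 (hcon k (fun ⟨i, hi⟩ => h ⟨i, hi⟩)))
        have h5 := add_mem h3 h4
        rw [sub_add_cancel] at h5
        exact h5
      obtain ⟨k, hke, hku⟩ := hk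
      have hspan := span_update b c k hku
      rw [hc] at hspan
      refine ⟨Function.update b k (y T), ⟨Fin.snoc e k, Fin.snoc_injective_iff.2 ⟨e.injective, hke⟩⟩,
        Groth.Agent.S0611.result _ _ hb hspan.symm, hspan.trans hbK, fun i => ?_⟩
      induction i using Fin.lastCases with
      | last =>
        simp only [Function.Embedding.coeFn_mk, Fin.snoc_last, Function.update_self]
        rfl
      | cast i =>
        simp only [Function.Embedding.coeFn_mk, Fin.snoc_castSucc]
        rw [Function.update_of_ne (fun h => hke ⟨i, h⟩), hbe]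
        rfl
  obtain ⟨b₀, e, hb₀, hb₀K, hb₀e⟩ := phase1 ys.length le_rfl
  have phase2 : ∀ P : Finset (Fin zs.length), (∀ k ∈ P, k ∉ Set.range e) → ∃ b : Fin zs.length → A,
      IsRegular A (List.ofFn b) ∧ Ideal.span (Set.range b) = K ∧ (∀ i, b (e i) = y i) ∧ ∀ k ∈ P, b k ∈ J := by
    intro P
    induction P using Finset.induction_on with
    | empty => exact fun _ => ⟨b₀, hb₀, hb₀K, fun i => hb₀e i, fun k hk => absurd hk (Finset.notMem_empty k)⟩
    | insert k P hkP ih =>
      intro hP
      obtain ⟨b, hb, hbK, hbe, hbP⟩ := ih fun l hl => hP l (Finset.mem_insert_of_mem hl)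
      have hke : k ∉ Set.range e := hP k (Finset.mem_insert_self _ _)
      have hw : ∃ c : Fin zs.length → A, ∑ i, c i * b i ∈ J ∧ IsUnit (c k) := by
        by_contra hcon
        push Not at hcon
        let L : Ideal A := Ideal.span (Set.range (Function.update b k 0)) ⊔ m * Ideal.span {b k}
        have hJL : J ≤ L := fun v hv => by
          obtain ⟨c, rfl⟩ := Ideal.mem_span_range_iff_exists_fun.1 (hbK.ge (hJK hv))
          rw [← Finset.add_sum_erase _ _ (Finset.mem_univ k)]
          refine add_mem (Ideal.mem_sup_right (Ideal.mem_mul_span_singleton.2 ⟨c k, (mem_maximalIdeal _).2 (hcon c hv), rfl⟩))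
            (Ideal.mem_sup_left (sum_mem fun j hj => Ideal.mul_mem_left _ _ (Ideal.subset_span ⟨j, Function.update_of_ne (Finset.ne_of_mem_erase hj) _ _⟩)))
        have hKL : b k ∈ L := by
          obtain ⟨d, hd⟩ := hdecomp (b k) (hbK.le (Ideal.subset_span ⟨k, rfl⟩))
          have hyL : ∑ i, d i * y i ∈ L := sum_mem fun i _ => Ideal.mul_mem_left _ _ (Ideal.mem_sup_left
            (Ideal.subset_span ⟨e i, by rw [Function.update_of_ne (fun h => hke ⟨i, h⟩), hbe]⟩))
          simpa using add_mem (hJL hd) hyL
        obtain ⟨l, hl, q, hq, hlq⟩ := Submodule.mem_sup.1 hKL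
        obtain ⟨a, ha, rfl⟩ := Ideal.mem_mul_span_singleton.1 hq
        obtain ⟨c, rfl⟩ := Ideal.mem_span_range_iff_exists_fun.1 hl
        have h1 := hK (hbK.le (coeff_mem_of_relation b (isQuasiRegular_of_isRegular hb)
          (fun i => if i = k then 1 - a else -c i) (by
            rw [← Finset.add_sum_erase _ _ (Finset.mem_univ k), if_pos rfl]
            rw [← Finset.add_sum_erase _ _ (Finset.mem_univ k), Function.update_self, mul_zero, zero_add] at hlq
            rw [Finset.sum_congr rfl (fun j hj => by rw [if_neg (Finset.ne_of_mem_erase hj)])]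
            rw [Finset.sum_congr rfl (fun j hj => by rw [Function.update_of_ne (Finset.ne_of_mem_erase hj)])] at hlq
            simp only [neg_mul, Finset.sum_neg_distrib]
            linear_combination -hlq) k))
        rw [if_pos rfl] at h1
        refine (maximalIdeal.isMaximal A).ne_top ((Ideal.eq_top_iff_one _).2 ?_)
        have h5 := add_mem h1 ha
        rw [sub_add_cancel] at h5
        exact h5
      obtain ⟨c, hcJ, hcu⟩ := hw
      have hspan := span_update b c k hcu
      refine ⟨_, Groth.Agent.S0611.result _ _ hb hspan.symm, hspan.trans hbK, fun i => ?_, fun l hl => ?_⟩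
      · rw [Function.update_of_ne (fun h => hke ⟨i, h⟩), hbe]
      · rcases Finset.mem_insert.1 hl with rfl | hl
        · rw [Function.update_self]; exact hcJ
        · rw [Function.update_of_ne (fun h : l = k => hkP (by rw [← h]; exact hl))]; exact hbP l hl
  obtain ⟨b, hb, hbK, hbe, hbJ⟩ := phase2 (Finset.univ.filter fun k => k ∉ Set.range e) fun k hk => (Finset.mem_filter.1 hk).2
  let σ := (Fintype.equivFin {k : Fin zs.length // k ∉ Set.range e}).symm
  let r := Fintype.card {k : Fin zs.length // k ∉ Set.range e}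
  let x : Fin r → A := fun i => b (σ i).1
  have hxJ : ∀ i, x i ∈ J := fun i => hbJ _ (Finset.mem_filter.2 ⟨Finset.mem_univ _, (σ i).2⟩)
  have hcard : r + ys.length = zs.length := by
    have h1 : Fintype.card {k : Fin zs.length // k ∈ Set.range e} = ys.length := by
      rw [← Fintype.card_congr (Equiv.ofInjective e e.injective)]
      exact Fintype.card_fin _
    have h2 := Fintype.card_subtype_compl (fun k : Fin zs.length => k ∈ Set.range e)
    rw [Fintype.card_fin, h1] at h2
    have h3 : ys.length ≤ zs.length := by simpa using Fintype.card_le_of_embedding e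
    show Fintype.card {k : Fin zs.length // k ∉ Set.range e} + _ = _
    rw [h2]
    omega
  have hrange : Set.range (Fin.append x y) = Set.range b := by
    refine Set.Subset.antisymm ?_ ?_
    · rintro _ ⟨i, rfl⟩
      induction i using Fin.addCases with
      | left i => exact ⟨(σ i).1, by rw [Fin.append_left]⟩
      | right i => exact ⟨e i, by rw [Fin.append_right, hbe]⟩
    · rintro _ ⟨k, rfl⟩
      by_cases hk : k ∈ Set.range e
      · obtain ⟨i, rfl⟩ := hk
        exact ⟨Fin.natAdd r i, by rw [Fin.append_right, hbe]⟩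
      · exact ⟨Fin.castAdd _ (σ.symm ⟨k, hk⟩), by rw [Fin.append_left]; simp only [x, Equiv.apply_symm_apply]⟩
  have hxy : IsRegular A (List.ofFn x ++ List.ofFn y) := by
    have h1 := Groth.Agent.S0611.result b (Fin.append x y ∘ Fin.cast hcard.symm) hb (by
      rw [Function.Surjective.range_comp (show Function.Surjective (Fin.cast hcard.symm) from fun j => ⟨Fin.cast hcard j, Fin.ext rfl⟩), hrange])
    rwa [show List.ofFn (Fin.append x y ∘ Fin.cast hcard.symm) = List.ofFn (Fin.append x y) from
      (List.ofFn_congr hcard (Fin.append x y)).symm, List.ofFn_fin_append] at h1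
  set X : Ideal A := Ideal.span (Set.range x)
  set Y : Ideal A := Ideal.span (Set.range y)
  have hXJ : X ≤ J := Ideal.span_le.2 (Set.range_subset_iff.2 hxJ)
  have hKXY : K = X ⊔ Y := by
    rw [← hbK, ← hrange, ← Ideal.span_union]
    congr 1
    ext v
    constructor
    · rintro ⟨i, rfl⟩
      induction i using Fin.addCases with
      | left i => exact Or.inl ⟨i, by rw [Fin.append_left]⟩
      | right i => exact Or.inr ⟨i, by rw [Fin.append_right]⟩
    · rintro (⟨i, rfl⟩ | ⟨i, rfl⟩)
      · exact ⟨Fin.castAdd _ i, by rw [Fin.append_left]⟩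
      · exact ⟨Fin.natAdd r i, by rw [Fin.append_right]⟩
  have key : ∀ d, ∀ z ∈ J, z ∈ X ⊔ Y ^ d := by
    intro d
    induction d with
    | zero => intro z _; rw [pow_zero, Ideal.one_eq_top, sup_top_eq]; trivial
    | succ d ih =>
      intro z hz
      obtain ⟨x₀, hx₀, v, hv, rfl⟩ := Submodule.mem_sup.1 (ih z hz)
      obtain ⟨P, hP, hPS, rfl⟩ := Groth.Agent.QRegLib.exists_poly_of_mem_pow y Set.univ d v (by rwa [Set.image_univ])
      have hcoef : ∀ q, P.coeff q ∈ K := fun q => by
        have h1 : MvPolynomial.eval (fun i => π (y i)) (P.map π) = 0 := by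
          rw [MvPolynomial.eval_map, show (fun i => π (y i)) = π ∘ y from rfl, ← MvPolynomial.eval₂_comp]
          exact Ideal.Quotient.eq_zero_iff_mem.2 (by simpa using sub_mem hz (hXJ hx₀))
        have h2 := hqy d (P.map π) (hP.map π) (by rw [h1]; exact zero_mem _) q
        rw [MvPolynomial.coeff_map, hKbar, ← Ideal.mem_comap, hcomap] at h2
        exact h2
      have h3 := Groth.Agent.QRegLib.eval_mem_mul_pow y K Set.univ d P hP hPS hcoef
      rw [Set.image_univ, hKXY, Ideal.sup_mul, ← pow_succ'] at h3
      exact add_mem (Ideal.mem_sup_left hx₀) ((sup_le_sup_right (Ideal.mul_le_left (I := X) (J := Y ^ d)) (Y ^ (d + 1))) h3)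
  have hJX : J = X := by
    refine le_antisymm (fun z hz => ?_) hXJ
    rw [← Ideal.Quotient.eq_zero_iff_mem]
    have hne : X ≠ ⊤ := ne_top_of_le_ne_top (maximalIdeal.isMaximal A).ne_top (hXJ.trans (hJK.trans hK))
    haveI : Nontrivial (A ⧸ X) := Ideal.Quotient.nontrivial_iff.2 hne
    haveI : IsLocalRing (A ⧸ X) := IsLocalRing.of_surjective' (Ideal.Quotient.mk X) Ideal.Quotient.mk_surjective
    have hY : Y.map (Ideal.Quotient.mk X) ≠ ⊤ := fun h => by
      have h2 := congrArg (Ideal.comap (Ideal.Quotient.mk X)) h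
      rw [Ideal.comap_map_of_surjective _ Ideal.Quotient.mk_surjective, ← RingHom.ker_eq_comap_bot, Ideal.mk_ker,
        Ideal.comap_top, sup_comm, ← hKXY] at h2
      exact ne_top_of_le_ne_top (maximalIdeal.isMaximal A).ne_top hK h2
    rw [← Ideal.mem_bot, ← Ideal.iInf_pow_eq_bot_of_isLocalRing _ hY, Ideal.mem_iInf]
    intro d
    obtain ⟨x₀, hx₀, v, hv, rfl⟩ := Submodule.mem_sup.1 (key d z hz)
    rw [map_add, Ideal.Quotient.eq_zero_iff_mem.2 hx₀, zero_add, ← Ideal.map_pow]
    exact Ideal.mem_map_of_mem _ hv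
  refine ⟨List.ofFn x, ⟨((isWeaklyRegular_append_iff A _ _).1 hxy.toIsWeaklyRegular).1, ?_⟩, (ofList_ofFn x).trans hJX.symm⟩
  rw [ofList_ofFn, smul_eq_mul, Ideal.mul_top]
  exact fun h => ne_top_of_le_ne_top (maximalIdeal.isMaximal A).ne_top (hXJ.trans (hJK.trans hK)) h.symm

end Groth.Agent.RegIdealLib

namespace Groth.Agent.RegIdealLib

variable {A : Type u} [CommRing A]

/-- If `J ≤ K` and `J`, `K/J` are generated by regular sequences, so is `K`. -/
theorem isRegularIdeal_of_extension [IsLocalRing A] {J K : Ideal A} (hJK : J ≤ K) (hK : K ≤ maximalIdeal A)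
    (hJ : CInt.IsRegularIdeal J) (hKJ : CInt.IsRegularIdeal (K.map (Ideal.Quotient.mk J))) :
    CInt.IsRegularIdeal K := by
  obtain ⟨xs, hxs, rfl⟩ := hJ
  obtain ⟨ys, hys, hyK⟩ := hKJ
  choose y hy using fun i : Fin ys.length => Ideal.Quotient.mk_surjective (ys.get i)
  have hmap : (List.ofFn y).map (Ideal.Quotient.mk (Ideal.ofList xs)) = ys := by
    rw [List.map_ofFn, show Ideal.Quotient.mk (Ideal.ofList xs) ∘ y = ys.get from funext hy, List.ofFn_get]
  have hwr : IsWeaklyRegular A (xs ++ List.ofFn y) := by
    rw [isWeaklyRegular_append_iff', hmap]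
    refine ⟨hxs.toIsWeaklyRegular, ?_⟩
    have h := hys.toIsWeaklyRegular
    have he : (Ideal.ofList xs • ⊤ : Submodule A A) = Ideal.ofList xs := by rw [smul_eq_mul, Ideal.mul_top]
    let E : (A ⧸ (Ideal.ofList xs • ⊤ : Submodule A A)) ≃ₗ[A ⧸ Ideal.ofList xs] (A ⧸ Ideal.ofList xs) :=
      { Submodule.quotEquivOfEq _ _ he with
        map_smul' := fun c v => by
          obtain ⟨c, rfl⟩ := Ideal.Quotient.mk_surjective c
          obtain ⟨v, rfl⟩ := Submodule.Quotient.mk_surjective _ v
          rfl }
    exact (E.isWeaklyRegular_congr ys).2 h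
  have hspan : Ideal.ofList (xs ++ List.ofFn y) = K := by
    have h1 : (Ideal.ofList (List.ofFn y)).map (Ideal.Quotient.mk (Ideal.ofList xs)) = K.map (Ideal.Quotient.mk (Ideal.ofList xs)) := by
      rw [Ideal.map_ofList, hmap, hyK]
    have h2 := congrArg (Ideal.comap (Ideal.Quotient.mk (Ideal.ofList xs))) h1
    rw [Ideal.comap_map_of_surjective _ Ideal.Quotient.mk_surjective, Ideal.comap_map_of_surjective _ Ideal.Quotient.mk_surjective,
      ← RingHom.ker_eq_comap_bot, Ideal.mk_ker, sup_eq_left.2 hJK] at h2
    rw [Ideal.ofList_append, sup_comm]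
    exact h2
  refine ⟨_, ⟨hwr, ?_⟩, hspan⟩
  rw [smul_eq_mul, Ideal.mul_top, hspan]
  exact fun h => ne_top_of_le_ne_top (maximalIdeal.isMaximal A).ne_top hK h.symm

/-- The maximal ideal of a regular local ring is generated by a regular sequence. -/
theorem isRegularIdeal_maximalIdeal [IsRegularLocalRing A] : CInt.IsRegularIdeal (maximalIdeal A) := by
  obtain ⟨d, hd⟩ := RegLocal.exists_nat_ringKrullDim A
  obtain ⟨x, hx⟩ := RegLocal.exists_generators A
  have hd' : ringKrullDim A = (maximalIdeal A).spanFinrank := IsRegularLocalRing.spanFinrank_maximalIdeal.symm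
  exact ⟨List.ofFn x, RegLocal.isRegular_of_generators A hd' x hx, (ofList_ofFn x).trans hx⟩

/-- An ideal with regular quotient in a regular local ring is generated by a regular sequence. -/
theorem isRegularIdeal_of_regular_quot [IsRegularLocalRing A] (J : Ideal A) [IsRegularLocalRing (A ⧸ J)] :
    CInt.IsRegularIdeal J := by
  have hJ : J ≠ ⊤ := Ideal.Quotient.nontrivial_iff.1 inferInstance
  refine isRegularIdeal_of_quotient (K := maximalIdeal A) (le_maximalIdeal hJ) le_rfl isRegularIdeal_maximalIdeal ?_
  rw [← RegLocal.maximalIdeal_quot hJ]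
  exact isRegularIdeal_maximalIdeal

end Groth.Agent.RegIdealLib
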