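import Mathlib
import Groth.Agent.RegIdealLib.Nested
import Groth.Agent.FerrVasc.Basic
import Groth.Prelude.Def_RegImm

/-! Regularity of immersions from stalks. -/

set_option autoImplicit false
set_option backward.isDefEq.respectTransparency false
set_option backward.defeqAttrib.useBackward true
set_option linter.style.haveILetI false

universe u

open CategoryTheory CategoryTheory.Limits AlgebraicGeometry IsLocalRing RingTheory.Sequence

namespace Groth.Agent.RegIdealLib

variable {X Z : Scheme.{u}}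

/-- Over an open where a morphism restricts to a closed immersion, preimages of affines are affine and the map on
sections is surjective. -/
theorem affine_and_surjective (i : Z ⟶ X) {U : X.Opens} (hU : IsAffineOpen U) (hc : IsClosedImmersion (i ∣_ U)) :
    IsAffineOpen (i ⁻¹ᵁ U) ∧ Function.Surjective (i.app U).hom := by
  haveI := hc
  haveI : IsAffine U.toScheme := hU
  haveI hZ : IsAffine (i ⁻¹ᵁ U).toScheme := isAffine_of_isAffineHom (i ∣_ U)
  refine ⟨hZ, ?_⟩
  have h1 : Function.Surjective (i ∣_ U).appTop.hom := (i ∣_ U).app_surjective ⊤ (isAffineOpen_top U.toScheme)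
  rw [morphismRestrict_appTop, CommRingCat.hom_comp] at h1
  have key : ∀ W : X.Opens, W = U → Function.Surjective (i.app W).hom → Function.Surjective (i.app U).hom := by
    rintro _ rfl h
    exact h
  refine key _ U.ι_image_top ?_
  intro y
  obtain ⟨a, ha⟩ := h1 ((Z.presheaf.map (eqToHom (image_morphismRestrict_preimage i U ⊤)).op).hom y)
  refine ⟨a, (ConcreteCategory.bijective_of_isIso (Z.presheaf.map (eqToHom (image_morphismRestrict_preimage i U ⊤)).op)).1 ?_⟩
  exact ha

/-- The kernel on stalks is the localization of the kernel on sections. -/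
theorem ker_stalkMap (i : Z ⟶ X) {U : X.Opens} (hU : IsAffineOpen U) (hc : IsClosedImmersion (i ∣_ U)) (z : Z)
    (hz : i z ∈ U) :
    RingHom.ker (i.stalkMap z).hom = (RingHom.ker (i.app U).hom).map (X.presheaf.germ U (i z) hz).hom := by
  obtain ⟨haff, hs⟩ := affine_and_surjective i hU hc
  letI : Algebra Γ(X, U) (X.presheaf.stalk (i z)) := TopCat.Presheaf.algebra_section_stalk X.presheaf ⟨i z, hz⟩
  haveI := hU.isLocalization_stalk ⟨i z, hz⟩
  letI : Algebra Γ(Z, i ⁻¹ᵁ U) (Z.presheaf.stalk z) := TopCat.Presheaf.algebra_section_stalk Z.presheaf ⟨z, hz⟩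
  haveI := haff.isLocalization_stalk ⟨z, hz⟩
  let q := (hU.primeIdealOf ⟨i z, hz⟩).asIdeal
  have hnat : ∀ r : Γ(X, U), i.stalkMap z (algebraMap Γ(X, U) (X.presheaf.stalk (i z)) r) =
      algebraMap _ (Z.presheaf.stalk z) (i.app U r) := fun r => Scheme.Hom.germ_stalkMap_apply i U z hz r
  refine le_antisymm (fun w hw => ?_) (Ideal.map_le_iff_le_comap.2 fun r hr => ?_)
  · obtain ⟨r, t, rfl⟩ := IsLocalization.exists_mk'_eq q.primeCompl w
    have h1 : algebraMap _ (Z.presheaf.stalk z) (i.app U r) = 0 := by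
      rw [← hnat, ← IsLocalization.mk'_spec (X.presheaf.stalk (i z)) r t, map_mul]
      exact mul_eq_zero_of_left hw _
    obtain ⟨c, hc'⟩ := (IsLocalization.map_eq_zero_iff (haff.primeIdealOf ⟨z, hz⟩).asIdeal.primeCompl _ _).1 h1
    obtain ⟨c', hcc⟩ := hs c
    have hc1 : c' ∉ q := fun hm => by
      have h2 := IsLocalization.map_units (Z.presheaf.stalk z) c
      rw [← hcc] at h2
      have h3 : IsUnit (i.stalkMap z (algebraMap Γ(X, U) (X.presheaf.stalk (i z)) c')) := by
        rw [hnat]
        exact h2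
      exact (IsLocalization.AtPrime.isUnit_to_map_iff (X.presheaf.stalk (i z)) q c').1
        ((isUnit_map_iff (i.stalkMap z).hom _).1 h3) hm
    refine (IsLocalization.mk'_mem_map_algebraMap_iff q.primeCompl (X.presheaf.stalk (i z)) _ r t).2 ⟨c', hc1, ?_⟩
    rw [RingHom.mem_ker, map_mul, hcc]
    exact hc'
  · rw [Ideal.mem_comap, RingHom.mem_ker]
    show i.stalkMap z (algebraMap Γ(X, U) _ r) = 0
    rw [hnat, show i.app U r = 0 from hr, map_zero]

/-- Rescaling the generators of a regular ideal by denominators. -/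
theorem exists_numerators {R O : Type u} [CommRing R] [CommRing O] [Algebra R O] [IsLocalRing O] [IsNoetherianRing O]
    (p : Submonoid R) [IsLocalization p O] {rs : List O} (hrs : IsRegular O rs) :
    ∃ f : List R, IsRegular O (f.map (algebraMap R O)) ∧ Ideal.ofList (f.map (algebraMap R O)) = Ideal.ofList rs := by
  choose r hr using fun i : Fin rs.length => IsLocalization.surj p (rs.get i)
  have hspan : Ideal.span (Set.range rs.get) = Ideal.span (Set.range fun i => algebraMap R O (r i).1) := by
    refine le_antisymm (Ideal.span_le.2 ?_) (Ideal.span_le.2 ?_) <;> rintro _ ⟨i, rfl⟩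
    · refine (Ideal.mul_unit_mem_iff_mem _ (IsLocalization.map_units O (r i).2)).1 ?_
      rw [hr i]
      exact Ideal.subset_span ⟨i, rfl⟩
    · show algebraMap R O (r i).1 ∈ Ideal.span (Set.range rs.get)
      rw [← hr i]
      exact Ideal.mul_mem_right _ _ (Ideal.subset_span ⟨i, rfl⟩)
  refine ⟨List.ofFn fun i => (r i).1, ?_, ?_⟩ <;> rw [List.map_ofFn]
  · exact Groth.Agent.S0611.result rs.get _ (by rwa [List.ofFn_get]) hspan
  · rw [ofList_ofFn]
    refine hspan.symm.trans ?_
    rw [← ofList_ofFn, List.ofFn_get]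

/-- An immersion is regular at a point where the stalk ideal is generated by a regular sequence. -/
theorem exists_regular_nhd [IsLocallyNoetherian X] (i : Z ⟶ X) {U : X.Opens} (hU : IsAffineOpen U)
    (hc : IsClosedImmersion (i ∣_ U)) (z : Z) (hz : i z ∈ U) (hreg : CInt.IsRegularIdeal (RingHom.ker (i.stalkMap z).hom)) :
    ∃ V : X.affineOpens, V.1 ≤ U ∧ i z ∈ V.1 ∧ IsClosedImmersion (i ∣_ V.1) ∧
      ∃ rs : List Γ(X, V.1), IsRegular Γ(X, V.1) rs ∧ RingHom.ker (i.app V.1).hom = Ideal.ofList rs := by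
  obtain ⟨rs, hrs, hrsK⟩ := hreg
  haveI : IsNoetherianRing Γ(X, U) := IsLocallyNoetherian.component_noetherian ⟨U, hU⟩
  obtain ⟨haff, hs⟩ := affine_and_surjective i hU hc
  let q := (hU.primeIdealOf ⟨i z, hz⟩).asIdeal
  letI : Algebra Γ(X, U) (X.presheaf.stalk (i z)) := TopCat.Presheaf.algebra_section_stalk X.presheaf ⟨i z, hz⟩
  haveI := hU.isLocalization_stalk ⟨i z, hz⟩
  obtain ⟨f, hf, hfspan⟩ := exists_numerators (R := Γ(X, U)) q.primeCompl hrs
  let O := X.presheaf.stalk (i z)
  let e := IsLocalization.algEquiv q.primeCompl O (Localization.AtPrime q)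
  let I := RingHom.ker (i.app U).hom
  have hIO : I.map (algebraMap Γ(X, U) O) = Ideal.ofList (f.map (algebraMap Γ(X, U) O)) := by
    rw [hfspan, hrsK, ker_stalkMap i hU hc z hz]
    rfl
  have hIq : I ≤ q := fun r hr => by
    by_contra hn
    have h0 : IsUnit (i.stalkMap z (algebraMap Γ(X, U) O r)) := (IsLocalization.map_units O (⟨r, hn⟩ : q.primeCompl)).map (i.stalkMap z).hom
    rw [show i.stalkMap z (algebraMap Γ(X, U) O r) = Z.presheaf.germ _ z hz (i.app U r) from
      Scheme.Hom.germ_stalkMap_apply i U z hz r, show i.app U r = 0 from hr, map_zero] at h0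
    exact not_isUnit_zero h0
  have hmap : ∀ {O' O'' : Type u} [CommRing O'] [CommRing O''] [Algebra Γ(X, U) O'] [Algebra Γ(X, U) O'']
      (e : O' ≃ₐ[Γ(X, U)] O''), (f.map (algebraMap Γ(X, U) O')).map e = f.map (algebraMap Γ(X, U) O'') := fun e => by
    rw [List.map_map]
    exact List.map_congr_left fun a _ => e.commutes a
  have hwr : IsWeaklyRegular (Localization.AtPrime q) (f.map (algebraMap Γ(X, U) (Localization.AtPrime q))) := by
    rw [← hmap e]
    exact (e.toRingEquiv.toAddEquiv.isWeaklyRegular_congr (List.forall₂_map_right_iff.mpr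
      (List.forall₂_same.mpr fun r _ x => map_mul e r x))).1 hf.toIsWeaklyRegular
  have hspanq : Ideal.ofList (f.map (algebraMap Γ(X, U) (Localization.AtPrime q))) =
      I.map (algebraMap Γ(X, U) (Localization.AtPrime q)) := by
    rw [← e.toAlgHom.comp_algebraMap, ← Ideal.map_map, hIO, Ideal.map_ofList]
    congr 1
    rw [List.map_map]
    rfl
  obtain ⟨g, hgq, hgreg, hgspan⟩ := FerrVasc.exists_regular_away (p := q) I hIq f hspanq hwr
  have hzg : i z ∈ X.basicOpen g := (X.mem_basicOpen g (i z) hz).2 (IsLocalization.map_units O (⟨g, hgq⟩ : q.primeCompl))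
  have hle : X.basicOpen g ≤ U := X.basicOpen_le g
  haveI := hc
  have hcV : IsClosedImmersion (i ∣_ X.basicOpen g) := by
    have h1 : IsClosedImmersion ((i ∣_ U) ∣_ (U.ι ⁻¹ᵁ X.basicOpen g)) := IsZariskiLocalAtTarget.restrict hc _
    have hV : U.ι ''ᵁ (U.ι ⁻¹ᵁ X.basicOpen g) = X.basicOpen g := by
      rw [Scheme.Hom.image_preimage_eq_opensRange_inf, Scheme.Opens.opensRange_ι, inf_eq_right.2 hle]
    rw [MorphismProperty.arrow_mk_iso_iff @IsClosedImmersion (morphismRestrictRestrict i U _)] at h1
    rwa [hV] at h1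
  refine ⟨⟨X.basicOpen g, hU.basicOpen g⟩, hle, hzg, hcV, ?_⟩
  letI : Algebra Γ(X, U) Γ(X, X.basicOpen g) := (X.presheaf.map (homOfLE hle).op).hom.toAlgebra
  haveI : IsLocalization.Away g Γ(X, X.basicOpen g) := hU.isLocalization_basicOpen g
  let eg := IsLocalization.algEquiv (Submonoid.powers g) (Localization.Away g) Γ(X, X.basicOpen g)
  refine ⟨f.map (algebraMap Γ(X, U) Γ(X, X.basicOpen g)), ?_, ?_⟩
  · rw [← hmap eg]
    exact (eg.toRingEquiv.toAddEquiv.isRegular_congr (List.forall₂_map_right_iff.mpr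
      (List.forall₂_same.mpr fun r _ x => map_mul eg r x))).1 hgreg
  · have h1 : RingHom.ker (i.app (X.basicOpen g)).hom = I.map (algebraMap Γ(X, U) Γ(X, X.basicOpen g)) := by
      obtain ⟨haffV, -⟩ := affine_and_surjective i (hU.basicOpen g) hcV
      refine le_antisymm (fun w hw => ?_) (Ideal.map_le_iff_le_comap.2 fun r hr => ?_)
      · obtain ⟨r, t, rfl⟩ := IsLocalization.exists_mk'_eq (Submonoid.powers g) w
        have hres : (Z.presheaf.map (homOfLE (i.preimage_mono hle)).op).hom (i.app U r) = 0 := by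
          show (i.app U ≫ Z.presheaf.map (homOfLE (i.preimage_mono hle)).op) r = 0
          have := i.naturality (homOfLE hle).op
          erw [← this]
          show i.app (X.basicOpen g) (algebraMap Γ(X, U) Γ(X, X.basicOpen g) r) = 0
          rw [← IsLocalization.mk'_spec Γ(X, X.basicOpen g) r t, map_mul]
          exact mul_eq_zero_of_left hw _
        have hbe : i ⁻¹ᵁ X.basicOpen g = Z.basicOpen (i.app U g) := Scheme.preimage_basicOpen i g
        have h2 : (Z.presheaf.map (homOfLE (Z.basicOpen_le (i.app U g))).op).hom (i.app U r) = 0 := by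
          have h3 := congrArg (Z.presheaf.map (homOfLE hbe.ge).op).hom hres
          rw [map_zero, ← RingHom.comp_apply, ← CommRingCat.hom_comp, ← Functor.map_comp] at h3
          exact h3
        letI : Algebra Γ(Z, i ⁻¹ᵁ U) Γ(Z, Z.basicOpen (i.app U g)) :=
          (Z.presheaf.map (homOfLE (Z.basicOpen_le (i.app U g))).op).hom.toAlgebra
        haveI : IsLocalization.Away (i.app U g) Γ(Z, Z.basicOpen (i.app U g)) := haff.isLocalization_basicOpen _
        obtain ⟨⟨_, k, rfl⟩, hk⟩ := (IsLocalization.map_eq_zero_iff (Submonoid.powers (i.app U g)) Γ(Z, Z.basicOpen (i.app U g)) (i.app U r)).1 h2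
        refine (IsLocalization.mk'_mem_map_algebraMap_iff (Submonoid.powers g) Γ(X, X.basicOpen g) _ r t).2 ⟨g ^ k, ⟨k, rfl⟩, ?_⟩
        rw [RingHom.mem_ker, map_mul, map_pow]
        exact hk
      · rw [Ideal.mem_comap, RingHom.mem_ker]
        show (X.presheaf.map (homOfLE hle).op ≫ i.app (X.basicOpen g)) r = 0
        rw [i.naturality, CommRingCat.comp_apply, show i.app U r = 0 from hr, map_zero]
    rw [h1, ← eg.toAlgHom.comp_algebraMap, ← Ideal.map_map, ← hgspan, Ideal.map_ofList]
    congr 1
    exact (hmap eg).trans (List.map_congr_left fun a _ => (eg.commutes a).symm)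

/-- An immersion of a regular scheme into a regular scheme is regular. -/
theorem isRegularImmersion_of_regular [IsLocallyNoetherian X] (i : Z ⟶ X) [IsImmersion i]
    (hX : ∀ x : X, IsRegularLocalRing (X.presheaf.stalk x)) (hZ : ∀ z : Z, IsRegularLocalRing (Z.presheaf.stalk z)) :
    RegImm.IsRegularImmersion RegImm.Kind.regular i := by
  refine ⟨inferInstance, fun z => ?_⟩
  have hzW : i z ∈ i.coborderRange := subset_coborder (Set.mem_range_self z)
  obtain ⟨_, ⟨U : X.Opens, hU, rfl⟩, hzU, hle⟩ :=
    X.isBasis_affineOpens.exists_subset_of_mem_open hzW i.coborderRange.2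
  have hc : IsClosedImmersion (i ∣_ U) := by
    let W := i.coborderRange
    have hV : W.ι ''ᵁ (W.ι ⁻¹ᵁ U) = U := by
      rw [Scheme.Hom.image_preimage_eq_opensRange_inf, Scheme.Opens.opensRange_ι]
      exact inf_eq_right.2 hle
    have h0 : IsClosedImmersion (i ∣_ W) := by
      have hfac : i ∣_ W = (i ⁻¹ᵁ W).ι ≫ i.liftCoborder := by
        rw [← cancel_mono W.ι, morphismRestrict_ι, Category.assoc, i.liftCoborder_ι]
      haveI : IsClosedImmersion (i ⁻¹ᵁ W).ι := IsClosedImmersion.of_isPreimmersion _ (by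
        rw [Scheme.Opens.range_ι, show ((i ⁻¹ᵁ W : Z.Opens) : Set Z) = Set.univ from
          Set.eq_univ_of_forall fun y => subset_coborder (Set.mem_range_self y)]
        exact isClosed_univ)
      rw [hfac]
      infer_instance
    have h1 : IsClosedImmersion ((i ∣_ W) ∣_ (W.ι ⁻¹ᵁ U)) := IsZariskiLocalAtTarget.restrict h0 _
    rw [MorphismProperty.arrow_mk_iso_iff @IsClosedImmersion (morphismRestrictRestrict i W _)] at h1
    rwa [hV] at h1
  haveI := hX (i z)
  let O := X.presheaf.stalk (i z)
  let e := RingHom.quotientKerEquivOfSurjective (f := (i.stalkMap z).hom) (i.stalkMap_surjective z)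
  haveI := hZ z
  haveI : IsRegularLocalRing (O ⧸ RingHom.ker (i.stalkMap z).hom) := IsRegularLocalRing.of_ringEquiv e.symm
  obtain ⟨V, -, hzV, hcV, rs, hrs, hK⟩ :=
    exists_regular_nhd i hU hc z hzU (isRegularIdeal_of_regular_quot _)
  exact ⟨V, hzV, hcV, rs, hrs, hK⟩

end Groth.Agent.RegIdealLib
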