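import Mathlib
import Groth.Agent.RegIdealLib.Immersion
import Groth.Prelude.Def_Mor2

/-! Regular closed immersions near a point, read on stalks. -/

set_option autoImplicit false
set_option backward.isDefEq.respectTransparency false
set_option backward.defeqAttrib.useBackward true
set_option linter.style.haveILetI false

universe u

open CategoryTheory CategoryTheory.Limits AlgebraicGeometry IsLocalRing RingTheory.Sequence
open scoped Pointwise

namespace Groth.Agent.RegIdealLib

variable {X Z : Scheme.{u}}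

theorem ker_app_restrict (i : Z ⟶ X) (V : X.Opens) (U : V.toScheme.Opens) :
    RingHom.ker ((i ∣_ V).app U).hom = RingHom.ker (i.app (V.ι ''ᵁ U)).hom := by
  rw [morphismRestrict_app, CommRingCat.hom_comp, RingHom.ker_comp_of_injective]
  exact (ConcreteCategory.bijective_of_isIso (Z.presheaf.map (eqToHom (image_morphismRestrict_preimage i V U)).op)).1

theorem isClosedImmersion_restrict (i : Z ⟶ X) (V : X.Opens) (hc : IsClosedImmersion (i ∣_ V)) (U : V.toScheme.Opens) :
    IsClosedImmersion (i ∣_ (V.ι ''ᵁ U)) := by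
  have h1 : IsClosedImmersion ((i ∣_ V) ∣_ U) := IsZariskiLocalAtTarget.restrict hc U
  rwa [MorphismProperty.arrow_mk_iso_iff @IsClosedImmersion (morphismRestrictRestrict i V U)] at h1

theorem regular_near_iff [IsLocallyNoetherian X] (i : Z ⟶ X) [IsClosedImmersion i] (z : Z) :
    (∃ V : X.Opens, i z ∈ V ∧ Mor2.IsRegularClosedImmersion (i ∣_ V)) ↔
      CInt.IsRegularIdeal (RingHom.ker (i.stalkMap z).hom) := by
  constructor
  · rintro ⟨V, hzV, hc, h⟩
    haveI := hc
    obtain ⟨U, hU, hzU, rs, hrs, hK⟩ := h (⟨z, hzV⟩ : (i ⁻¹ᵁ V).toScheme)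
    rw [Scheme.Hom.ker_apply] at hK
    have hU' : IsAffineOpen (V.ι ''ᵁ U) := hU.image_of_isOpenImmersion V.ι
    have hz' : i z ∈ V.ι ''ᵁ U := by
      refine ⟨(i ∣_ V) ⟨z, hzV⟩, hzU, ?_⟩
      show ((i ∣_ V) ≫ V.ι) (⟨z, hzV⟩ : (i ⁻¹ᵁ V).toScheme) = i z
      rw [morphismRestrict_ι]
      rfl
    have hk := ker_stalkMap i hU' (isClosedImmersion_restrict i V hc U) z hz'
    rw [← ker_app_restrict i V U] at hk
    letI : Algebra Γ(X, V.ι ''ᵁ U) (X.presheaf.stalk (i z)) := TopCat.Presheaf.algebra_section_stalk X.presheaf ⟨i z, hz'⟩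
    haveI := hU'.isLocalization_stalk ⟨i z, hz'⟩
    haveI : Module.Flat Γ(X, V.ι ''ᵁ U) (X.presheaf.stalk (i z)) :=
      IsLocalization.flat _ (hU'.primeIdealOf ⟨i z, hz'⟩).asIdeal.primeCompl
    let rs' : List Γ(X, V.ι ''ᵁ U) := rs
    have hwr : IsWeaklyRegular (X.presheaf.stalk (i z)) (rs'.map (algebraMap Γ(X, V.ι ''ᵁ U) (X.presheaf.stalk (i z)))) :=
      IsWeaklyRegular.of_flat (R := Γ(X, V.ι ''ᵁ U)) (S := X.presheaf.stalk (i z)) (rs := rs') hrs.toIsWeaklyRegular
    have hkk : RingHom.ker (i.stalkMap z).hom =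
        Ideal.ofList (rs'.map (algebraMap Γ(X, V.ι ''ᵁ U) (X.presheaf.stalk (i z)))) := by
      rw [← Ideal.map_ofList, hk, hK]
      rfl
    refine ⟨_, ⟨hwr, ?_⟩, hkk.symm⟩
    rw [smul_eq_mul, Ideal.mul_top, ← hkk]
    exact fun h => (RingHom.ker_ne_top (i.stalkMap z).hom) h.symm
  · intro h
    obtain ⟨_, ⟨U : X.Opens, hU, rfl⟩, hzU, -⟩ := X.isBasis_affineOpens.exists_subset_of_mem_open (Set.mem_univ (i z)) isOpen_univ
    obtain ⟨V, -, hzV, hcV, rs, hrs, hK⟩ :=
      exists_regular_nhd i hU (IsZariskiLocalAtTarget.restrict (P := @IsClosedImmersion) (inferInstanceAs (IsClosedImmersion i)) U) z hzU h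
    haveI := hcV
    have key : ∀ W : X.Opens, W = V.1 → ∃ rs : List Γ(X, W), IsRegular Γ(X, W) rs ∧ RingHom.ker (i.app W).hom = Ideal.ofList rs := by
      rintro _ rfl
      exact ⟨rs, hrs, hK⟩
    obtain ⟨rs', hrs', hK'⟩ := key _ (Scheme.Opens.ι_image_top V.1)
    haveI : IsAffine V.1.toScheme := V.2
    refine ⟨V.1, hzV, hcV, fun z' => ⟨⊤, isAffineOpen_top _, trivial, rs', hrs', ?_⟩⟩
    rw [Scheme.Hom.ker_apply]
    exact (ker_app_restrict i V.1 ⊤).trans hK'

/-- A Noetherian local ring with a regular quotient by a regular sequence is regular. -/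
theorem isRegularLocalRing_of_quot_ofList : ∀ (n : ℕ) (R : Type u) [CommRing R] [IsLocalRing R] [IsNoetherianRing R]
    (rs : List R), rs.length = n → IsRegular R rs → IsRegularLocalRing (R ⧸ Ideal.ofList rs) → IsRegularLocalRing R := by
  intro n
  induction n with
  | zero =>
    intro R _ _ _ rs hn _ h
    rw [List.length_eq_zero_iff] at hn
    subst hn
    haveI := h
    exact IsRegularLocalRing.of_ringEquiv ((Ideal.quotEquivOfEq (Ideal.ofList_nil)).trans (RingEquiv.quotientBot R))
  | succ n ih =>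
    intro R _ _ _ rs hn hrs h
    obtain ⟨r, rs, rfl⟩ := List.exists_cons_of_length_eq_add_one hn
    have hwr := hrs.toIsWeaklyRegular
    rw [isWeaklyRegular_cons_iff'] at hwr
    have hm : ∀ a ∈ r :: rs, a ∈ maximalIdeal R := fun a ha => le_maximalIdeal (J := Ideal.ofList (r :: rs)) (fun ht => hrs.top_ne_smul (by
      rw [ht, smul_eq_mul, Ideal.mul_top])) (Ideal.subset_span ha)
    let I := Ideal.span ({r} : Set R)
    have hI : I ≤ maximalIdeal R := (Ideal.span_singleton_le_iff_mem _).2 (hm r List.mem_cons_self)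
    haveI : IsLocalRing (R ⧸ I) := RegLocal.isLocalRing_quot (ne_top_of_le_ne_top (maximalIdeal.isMaximal R).ne_top hI)
    let rs' := rs.map (Ideal.Quotient.mk I)
    haveI : IsRegularLocalRing ((R ⧸ I) ⧸ Ideal.ofList rs') := by
      haveI := h
      refine IsRegularLocalRing.of_ringEquiv (R := R ⧸ Ideal.ofList (r :: rs)) ?_
      refine RingEquiv.trans ?_ ((DoubleQuot.quotQuotEquivQuotSup I (Ideal.ofList rs)).symm.trans
        (Ideal.quotEquivOfEq (Ideal.map_ofList _ _)))
      exact Ideal.quotEquivOfEq (Ideal.ofList_cons r rs)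
    have hle : Ideal.ofList rs' ≤ maximalIdeal (R ⧸ I) := Ideal.span_le.2 fun a ha => by
      obtain ⟨b, hb, rfl⟩ := List.mem_map.1 ha
      refine (mem_maximalIdeal _).2 fun hu => (maximalIdeal.isMaximal R).ne_top ?_
      obtain ⟨c, hc⟩ := hu.exists_right_inv
      obtain ⟨c, rfl⟩ := Ideal.Quotient.mk_surjective c
      rw [← map_mul, ← map_one (Ideal.Quotient.mk I), Ideal.Quotient.eq] at hc
      exact (Ideal.eq_top_iff_one _).2 (by simpa using sub_mem (Ideal.mul_mem_right c _ (hm b (List.mem_cons_of_mem _ hb))) (hI hc))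
    have he : (r • (⊤ : Submodule R R)) = I := by
      rw [← Submodule.ideal_span_singleton_smul, smul_eq_mul, Ideal.mul_top]
    let E : QuotSMulTop r R ≃ₗ[R ⧸ I] (R ⧸ I) :=
      { Submodule.quotEquivOfEq _ _ he with
        map_smul' := fun c v => by
          obtain ⟨c, rfl⟩ := Ideal.Quotient.mk_surjective c
          obtain ⟨v, rfl⟩ := Submodule.Quotient.mk_surjective _ v
          rfl }
    haveI : IsRegularLocalRing (R ⧸ I) := ih (R ⧸ I) rs' (by rw [List.length_map]; simpa using hn)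
      ⟨(E.isWeaklyRegular_congr rs').1 hwr.2, by
        rw [smul_eq_mul, Ideal.mul_top]
        exact fun hh => (maximalIdeal.isMaximal (R ⧸ I)).ne_top (top_le_iff.1 (hh.le.trans hle))⟩ inferInstance
    exact RegLocal.isRegularLocalRing_of_quot_regular (hm r List.mem_cons_self)
      (mem_nonZeroDivisors_iff_right.2 fun z hz => hwr.1 (by simp only [smul_eq_mul, mul_zero]; rw [mul_comm, hz]))

end Groth.Agent.RegIdealLib
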