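import Mathlib
import Groth.Agent.RegIdealLib.Nested

/-! Cutting a regular ideal by part of a regular system of parameters. -/

set_option autoImplicit false
set_option linter.style.haveILetI false

universe u

open IsLocalRing RingTheory.Sequence
open scoped Pointwise

namespace Groth.Agent.RegIdealLib

theorem isRegularIdeal_of_ringEquiv {A B : Type u} [CommRing A] [CommRing B] (e : A ≃+* B) {I : Ideal A}
    (h : CInt.IsRegularIdeal I) : CInt.IsRegularIdeal (I.map e.toRingHom) := by
  obtain ⟨rs, hrs, rfl⟩ := h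
  letI : Algebra A B := e.toRingHom.toAlgebra
  have hmap : Ideal.ofList (rs.map (algebraMap A B)) = (Ideal.ofList rs).map e.toRingHom :=
    (Ideal.map_ofList (algebraMap A B) rs).symm
  let E : A ≃ₗ[A] B := { e.toAddEquiv with map_smul' := fun a x => map_mul e a x }
  refine ⟨_, ⟨(isWeaklyRegular_map_algebraMap_iff B B rs).2 ((E.isWeaklyRegular_congr rs).1 hrs.toIsWeaklyRegular), ?_⟩, hmap⟩
  rw [smul_eq_mul, Ideal.mul_top, hmap]
  intro h
  apply hrs.top_ne_smul
  rw [smul_eq_mul, Ideal.mul_top]
  have h2 := congrArg (Ideal.comap e.toRingHom) h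
  rw [Ideal.comap_top, Ideal.comap_map_of_bijective e.toRingHom e.bijective] at h2
  exact h2

/-- A regular ideal stays regular after dividing by an element which is part of a minimal generating set. -/
theorem isRegularIdeal_map_quot_singleton {A : Type u} [CommRing A] [IsNoetherianRing A] [IsLocalRing A]
    {K : Ideal A} (hK : K ≤ maximalIdeal A) (hreg : CInt.IsRegularIdeal K) {x : A} (hx : x ∈ K)
    (hx' : x ∉ maximalIdeal A * K) : CInt.IsRegularIdeal (K.map (Ideal.Quotient.mk (Ideal.span {x}))) := by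
  classical
  obtain ⟨zs, hz, hzK⟩ := hreg
  obtain ⟨n, b, rfl⟩ : ∃ (n : ℕ) (b : Fin n → A), List.ofFn b = zs := ⟨zs.length, zs.get, List.ofFn_get zs⟩
  rw [ofList_ofFn] at hzK
  obtain ⟨c, hc⟩ := Ideal.mem_span_range_iff_exists_fun.1 (hzK.ge hx)
  obtain ⟨k, hk⟩ : ∃ k, IsUnit (c k) := by
    by_contra! hcon
    refine hx' (hc ▸ sum_mem fun i _ => Ideal.mul_mem_mul ((mem_maximalIdeal _).2 (hcon i)) ?_)
    rw [← hzK]
    exact Ideal.subset_span ⟨i, rfl⟩
  obtain ⟨n, rfl⟩ : ∃ m, n = m + 1 := ⟨n - 1, by have := k.2; omega⟩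
  have hspan := span_update b c k hk
  rw [hc] at hspan
  let g : Fin n → A := fun i => b (k.succAbove i)
  have hrange : Set.range (Fin.cons x g : Fin (n + 1) → A) = Set.range (Function.update b k x) := by
    rw [Fin.range_cons]
    ext v
    constructor
    · rintro (rfl | ⟨i, rfl⟩)
      · exact ⟨k, Function.update_self _ _ _⟩
      · exact ⟨k.succAbove i, Function.update_of_ne (Fin.succAbove_ne k i) _ _⟩
    · rintro ⟨i, rfl⟩
      rcases eq_or_ne i k with rfl | hi
      · exact Or.inl (Function.update_self _ _ _)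
      · obtain ⟨l, rfl⟩ := Fin.exists_succAbove_eq hi
        exact Or.inr ⟨l, (Function.update_of_ne hi _ _).symm⟩
  have hwr := (Groth.Agent.S0611.result b (Fin.cons x g) hz (by rw [hrange, hspan])).toIsWeaklyRegular
  rw [List.ofFn_cons, isWeaklyRegular_cons_iff'] at hwr
  let I := Ideal.span ({x} : Set A)
  have he : (x • (⊤ : Submodule A A)) = I := by rw [← Submodule.ideal_span_singleton_smul, smul_eq_mul, Ideal.mul_top]
  let E : QuotSMulTop x A ≃ₗ[A ⧸ I] (A ⧸ I) :=
    { Submodule.quotEquivOfEq _ _ he with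
      map_smul' := fun c v => by
        obtain ⟨c, rfl⟩ := Ideal.Quotient.mk_surjective c
        obtain ⟨v, rfl⟩ := Submodule.Quotient.mk_surjective _ v
        rfl }
  have hmapK : Ideal.ofList ((List.ofFn g).map (Ideal.Quotient.mk I)) = K.map (Ideal.Quotient.mk I) := by
    rw [← hzK, ← hspan, ← hrange, Fin.range_cons, Ideal.span_insert, Ideal.map_sup, ← Ideal.map_ofList, ofList_ofFn]
    show _ = (Ideal.span {x}).map (Ideal.Quotient.mk I) ⊔ _
    rw [Ideal.map_quotient_self, bot_sup_eq]
  refine ⟨_, ⟨(E.isWeaklyRegular_congr _).1 hwr.2, ?_⟩, hmapK⟩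
  rw [smul_eq_mul, Ideal.mul_top, hmapK]
  intro h
  have h2 := congrArg (Ideal.comap (Ideal.Quotient.mk I)) h
  rw [Ideal.comap_top, Ideal.comap_map_of_surjective _ Ideal.Quotient.mk_surjective, ← RingHom.ker_eq_comap_bot, Ideal.mk_ker,
    sup_eq_left.2 ((Ideal.span_singleton_le_iff_mem _).2 hx)] at h2
  exact (maximalIdeal.isMaximal A).ne_top (top_le_iff.1 (h2.le.trans hK))

theorem isRegularIdeal_map_quot : ∀ (d : ℕ) (A : Type u) [CommRing A] [IsRegularLocalRing A], ringKrullDim A = d →
    ∀ (J K : Ideal A), J ≤ K → K ≤ maximalIdeal A → IsRegularLocalRing (A ⧸ J) → CInt.IsRegularIdeal K →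
      CInt.IsRegularIdeal (K.map (Ideal.Quotient.mk J)) := by
  intro d
  induction d using Nat.strong_induction_on with
  | _ d ih =>
  intro A _ _ hd J K hJK hK hJ hreg
  by_cases hJm : J ≤ maximalIdeal A ^ 2
  · have hJ0 : J = ⊥ := by
      obtain ⟨x, c, hc, hx, hJx⟩ := RegLocal.exists_generators_of_quot_regular A hd J
      rcases Nat.eq_zero_or_pos c with rfl | hcpos
      · simp [hJx]
      · exfalso
        have hx0 : x (Fin.castLE hc ⟨0, hcpos⟩) ∈ maximalIdeal A ^ 2 := hJm (hJx ▸ Ideal.subset_span ⟨⟨0, hcpos⟩, rfl⟩)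
        let j := Fin.castLE hc ⟨0, hcpos⟩
        let N : Ideal A := Ideal.span (x '' ((Finset.univ.erase j : Finset (Fin d)) : Set (Fin d)))
        have hle : maximalIdeal A ≤ N := by
          refine Submodule.le_of_le_smul_of_le_jacobson_bot (IsNoetherian.noetherian _)
            (le_of_eq (jacobson_eq_maximalIdeal ⊥ bot_ne_top).symm) ?_
          conv_lhs => rw [← hx]
          rw [Ideal.span_le]
          rintro _ ⟨i, rfl⟩
          rcases eq_or_ne i j with rfl | hi
          · refine Submodule.mem_sup_right ?_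
            rw [smul_eq_mul, ← sq]
            exact hx0
          · exact Submodule.mem_sup_left (Ideal.subset_span ⟨i, by simp [hi], rfl⟩)
        have h1 : (maximalIdeal A).spanFinrank ≤ d - 1 := by
          have hN : N = maximalIdeal A := le_antisymm (Ideal.span_le.2 (by
            rintro _ ⟨i, -, rfl⟩
            rw [← hx]; exact Ideal.subset_span ⟨i, rfl⟩)) hle
          rw [← hN]
          refine (Submodule.spanFinrank_span_le_ncard_of_finite (Set.toFinite _)).trans ((Set.ncard_image_le (Finset.finite_toSet _)).trans ?_)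
          rw [Set.ncard_coe_finset, Finset.card_erase_of_mem (Finset.mem_univ _), Finset.card_univ, Fintype.card_fin]
        have h2 := IsRegularLocalRing.spanFinrank_maximalIdeal (R := A)
        rw [hd] at h2
        have h3 : (maximalIdeal A).spanFinrank = d := by exact_mod_cast h2
        omega
    subst hJ0
    have h := isRegularIdeal_of_ringEquiv (RingEquiv.quotientBot A).symm hreg
    convert h using 2
    rfl
  · obtain ⟨x, hxJ, hx2⟩ := SetLike.not_le_iff_exists.1 hJm
    have hxm : x ∈ maximalIdeal A := hK (hJK hxJ)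
    obtain ⟨hq, hd1, hdq⟩ := RegLocal.quot_singleton A hd hxm hx2
    haveI := hq
    let π := Ideal.Quotient.mk (Ideal.span ({x} : Set A))
    have hxK : x ∉ maximalIdeal A * K := fun h => hx2 (by rw [sq]; exact Ideal.mul_mono_right hK h)
    have hKx := isRegularIdeal_map_quot_singleton hK hreg (hJK hxJ) hxK
    have hle : Ideal.span ({x} : Set A) ≤ J := (Ideal.span_singleton_le_iff_mem _).2 hxJ
    haveI : IsRegularLocalRing ((A ⧸ Ideal.span ({x} : Set A)) ⧸ J.map π) := by
      haveI := hJ
      exact IsRegularLocalRing.of_ringEquiv (DoubleQuot.quotQuotEquivQuotOfLE hle).symm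
    have h := ih (d - 1) (by omega) (A ⧸ Ideal.span ({x} : Set A)) hdq (J.map π) (K.map π) (Ideal.map_mono hJK)
      (by
        rw [RegLocal.maximalIdeal_quot (ne_top_of_le_ne_top (maximalIdeal.isMaximal A).ne_top (hle.trans (hJK.trans hK)))]
        exact Ideal.map_mono hK) inferInstance hKx
    have h2 := isRegularIdeal_of_ringEquiv (DoubleQuot.quotQuotEquivQuotOfLE hle) h
    rw [Ideal.map_map, Ideal.map_map] at h2
    convert h2 using 2
    exact RingHom.ext fun a => rfl

end Groth.Agent.RegIdealLib
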