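import Mathlib
import Groth.Agent.RegIdealLib.Near
import Groth.Agent.RegIdealLib.Cut

/-! Regular closed immersions near a point, for composites. -/

set_option autoImplicit false
set_option backward.isDefEq.respectTransparency false
set_option backward.defeqAttrib.useBackward true
set_option linter.style.haveILetI false

universe u

open CategoryTheory CategoryTheory.Limits AlgebraicGeometry IsLocalRing

namespace Groth.Agent.RegIdealLib

theorem regular_quot_iff {A B C : Type u} [CommRing A] [CommRing B] [CommRing C] (φ : A →+* B) (ψ : B →+* C)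
    (hφ : Function.Surjective φ) :
    CInt.IsRegularIdeal ((RingHom.ker (ψ.comp φ)).map (Ideal.Quotient.mk (RingHom.ker φ))) ↔
      CInt.IsRegularIdeal (RingHom.ker ψ) := by
  let e := RingHom.quotientKerEquivOfSurjective hφ
  have hc : e.toRingHom.comp (Ideal.Quotient.mk (RingHom.ker φ)) = φ :=
    RingHom.ext fun a => RingHom.quotientKerEquivOfSurjective_apply_mk hφ a
  have h1 : ((RingHom.ker (ψ.comp φ)).map (Ideal.Quotient.mk (RingHom.ker φ))).map e.toRingHom = RingHom.ker ψ := by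
    rw [Ideal.map_map, hc, ← RingHom.comap_ker, Ideal.map_comap_of_surjective φ hφ]
  refine ⟨fun h => h1 ▸ isRegularIdeal_of_ringEquiv e h, fun h => ?_⟩
  have h2 := isRegularIdeal_of_ringEquiv e.symm h
  rw [← h1, Ideal.map_map] at h2
  rwa [show e.symm.toRingHom.comp e.toRingHom = RingHom.id _ from RingHom.ext fun a => e.symm_apply_apply a, Ideal.map_id] at h2

variable {X Y Z : Scheme.{u}} (f : Y ⟶ X) (g : Z ⟶ Y)

theorem regular_stalk_quot_iff [IsClosedImmersion f] (z : Z) :
    CInt.IsRegularIdeal ((RingHom.ker ((g ≫ f).stalkMap z).hom).map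
        (Ideal.Quotient.mk (RingHom.ker (f.stalkMap (g z)).hom))) ↔
      CInt.IsRegularIdeal (RingHom.ker (g.stalkMap z).hom) := by
  rw [Scheme.Hom.stalkMap_comp, CommRingCat.hom_comp]
  exact regular_quot_iff _ _ (f.stalkMap_surjective (g z))

theorem ker_stalkMap_le (z : Z) :
    RingHom.ker (f.stalkMap (g z)).hom ≤ RingHom.ker ((g ≫ f).stalkMap z).hom := by
  rw [Scheme.Hom.stalkMap_comp, CommRingCat.hom_comp, ← RingHom.comap_ker]
  exact fun a ha => by rw [Ideal.mem_comap, (RingHom.mem_ker).1 ha]; exact zero_mem _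

theorem regular_near_comp_iff [IsLocallyNoetherian X] [IsClosedImmersion f] [IsClosedImmersion g] (z : Z) :
    ((∃ V : Y.Opens, g z ∈ V ∧ Mor2.IsRegularClosedImmersion (g ∣_ V)) ∧ (∃ V : X.Opens, f (g z) ∈ V ∧ Mor2.IsRegularClosedImmersion (f ∣_ V))) ↔
      ((∃ V : Y.Opens, g z ∈ V ∧ Mor2.IsRegularClosedImmersion (g ∣_ V)) ∧ (∃ V : X.Opens, (g ≫ f) z ∈ V ∧ Mor2.IsRegularClosedImmersion ((g ≫ f) ∣_ V))) := by
  haveI : IsLocallyNoetherian Y := LocallyOfFiniteType.isLocallyNoetherian f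
  rw [regular_near_iff g z, regular_near_iff f (g z), regular_near_iff (g ≫ f) z, ← regular_stalk_quot_iff f g z]
  have hJK := ker_stalkMap_le f g z
  have hK := le_maximalIdeal (RingHom.ker_ne_top ((g ≫ f).stalkMap z).hom)
  exact ⟨fun ⟨h1, h2⟩ => ⟨h1, isRegularIdeal_of_extension hJK hK h2 h1⟩,
    fun ⟨h1, h2⟩ => ⟨h1, isRegularIdeal_of_quotient hJK hK h2 h1⟩⟩

theorem comp_regular_near_iff [IsLocallyNoetherian X] [IsClosedImmersion f] [IsClosedImmersion g] (z : Z)
    [IsRegularLocalRing (Y.presheaf.stalk (g z))] [IsRegularLocalRing (X.presheaf.stalk (f (g z)))] :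
    (∃ V : X.Opens, (g ≫ f) z ∈ V ∧ Mor2.IsRegularClosedImmersion ((g ≫ f) ∣_ V)) ↔
      (∃ V : Y.Opens, g z ∈ V ∧ Mor2.IsRegularClosedImmersion (g ∣_ V)) := by
  haveI : IsLocallyNoetherian Y := LocallyOfFiniteType.isLocallyNoetherian f
  rw [regular_near_iff g z, regular_near_iff (g ≫ f) z, ← regular_stalk_quot_iff f g z]
  have hJK := ker_stalkMap_le f g z
  have hK := le_maximalIdeal (RingHom.ker_ne_top ((g ≫ f).stalkMap z).hom)
  haveI : IsRegularLocalRing (X.presheaf.stalk (f (g z)) ⧸ RingHom.ker (f.stalkMap (g z)).hom) :=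
    IsRegularLocalRing.of_ringEquiv (RingHom.quotientKerEquivOfSurjective (f.stalkMap_surjective (g z))).symm
  haveI : IsRegularLocalRing (X.presheaf.stalk ((g ≫ f) z)) := inferInstanceAs (IsRegularLocalRing (X.presheaf.stalk (f (g z))))
  obtain ⟨d, hd⟩ := RegLocal.exists_nat_ringKrullDim (X.presheaf.stalk ((g ≫ f) z))
  exact ⟨isRegularIdeal_map_quot d _ hd _ _ hJK hK inferInstance,
    isRegularIdeal_of_extension hJK hK (isRegularIdeal_of_regular_quot _)⟩

end Groth.Agent.RegIdealLib
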